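import Groth.Agent.VBCurve.K704.MukGeo
import Groth.Agent.VBCurve.K704.FineCoarse
import Groth.Agent.CohqB.PullTwist471
import Groth.Agent.Krr.H487.ExtPull
import Groth.Agent.Krr.H482.PullLambda
import Groth.Agent.Dual.H366.ExtQCoh
import Groth.Agent.Fga.HodgePush
import Groth.Agent.Grpsch.PicGrp

/-!
# The moduli problem `SU` is functorial (node LAWS of `K704.PlanMuk3`)
-/

set_option autoImplicit false
set_option backward.isDefEq.respectTransparency false
universe u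

open CategoryTheory CategoryTheory.Limits AlgebraicGeometry Opposite TopologicalSpace

namespace K432.MukLaws

open Groth.Agent Groth.Agent.Ega2 Groth.Agent.CohqB.PullTwist471 Groth.Agent.Fdesc.LocGen
open Groth.Agent.Grpsch.PicGrp

section Fib
variable {X S : Scheme.{u}} (f : X ⟶ S)

theorem XTmap_XTproj {T T' : Over S} (g : T' ⟶ T) :
    PicF.XTmap f g ≫ PicF.XTproj f T = PicF.XTproj f T' ≫ g.left :=
  pullback.lift_snd _ _ _

theorem XTmap_fst {T T' : Over S} (g : T' ⟶ T) :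
    PicF.XTmap f g ≫ pullback.fst f T.hom = pullback.fst f T'.hom :=
  (pullback.lift_fst _ _ _).trans (Category.comp_id _)

theorem XTmap_comp {T T' T'' : Over S} (g : T' ⟶ T) (h : T'' ⟶ T') :
    PicF.XTmap f (h ≫ g) = PicF.XTmap f h ≫ PicF.XTmap f g := by
  apply pullback.hom_ext
  · rw [XTmap_fst, Category.assoc, XTmap_fst, XTmap_fst]
  · rw [Category.assoc]
    change PicF.XTmap f (h ≫ g) ≫ PicF.XTproj f T = PicF.XTmap f h ≫ PicF.XTmap f g ≫ PicF.XTproj f T
    rw [XTmap_XTproj, XTmap_XTproj, ← Category.assoc, XTmap_XTproj, Over.comp_left, Category.assoc]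

/-! ### the relation -/

theorem r_of_iso {T : Over S} {E E' : (PicF.XT f T).Modules} (e : E ≅ E') : (ModFun.modProb f).r T E E' := by
  obtain ⟨e1⟩ := Ega3B.PullTensor.nonempty_pullUnitIso (PicF.XTproj f T)
  exact ⟨Coh.structureModule T.left, isInvertible_structureModule,
    ⟨e.symm ≪≫ (Tens.runit E).symm ≪≫ Tens.mapTIso (Iso.refl _) e1.symm⟩⟩

theorem r_symm {T : Over S} {E E' : (PicF.XT f T).Modules} (h : (ModFun.modProb f).r T E E') :
    (ModFun.modProb f).r T E' E := by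
  obtain ⟨M, hM, ⟨e⟩⟩ := h
  obtain ⟨N, hN, ⟨e2⟩⟩ := exists_inverse hM
  obtain ⟨e1⟩ := Ega3B.PullTensor.nonempty_pullUnitIso (PicF.XTproj f T)
  refine ⟨N, hN, ⟨?_⟩⟩
  let p := PicF.XTproj f T
  have e3 : CohB1.tensorMod ((Scheme.Modules.pullback p).obj M) ((Scheme.Modules.pullback p).obj N) ≅
      Coh.structureModule _ :=
    (pullTensorIsoLeft p (hasBases_of_isInvertible hM) N).symm ≪≫ (Scheme.Modules.pullback p).mapIso e2 ≪≫ e1
  exact (Tens.runit E).symm ≪≫ Tens.mapTIso (Iso.refl E) e3.symm ≪≫ (Tens.assoc _ _ _).symm ≪≫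
    Tens.mapTIso e.symm (Iso.refl _)

theorem r_trans {T : Over S} {E E' E'' : (PicF.XT f T).Modules} (h : (ModFun.modProb f).r T E E')
    (h' : (ModFun.modProb f).r T E' E'') : (ModFun.modProb f).r T E E'' := by
  obtain ⟨M, hM, ⟨e⟩⟩ := h
  obtain ⟨N, hN, ⟨e'⟩⟩ := h'
  refine ⟨CohB1.tensorMod M N, isInvertible_tensorMod hM hN, ⟨?_⟩⟩
  exact e' ≪≫ Tens.mapTIso e (Iso.refl _) ≪≫ Tens.assoc _ _ _ ≪≫ Tens.mapTIso (Iso.refl E)
    (pullTensorIsoLeft _ (hasBases_of_isInvertible hM) N).symm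

theorem r_pull {T T' : Over S} (g : T' ⟶ T) {E E' : (PicF.XT f T).Modules} (h : (ModFun.modProb f).r T E E') :
    (ModFun.modProb f).r T' ((Scheme.Modules.pullback (PicF.XTmap f g)).obj E)
      ((Scheme.Modules.pullback (PicF.XTmap f g)).obj E') := by
  obtain ⟨M, hM, ⟨e⟩⟩ := h
  refine ⟨(Scheme.Modules.pullback g.left).obj M, isInvertible_pullback _ hM, ⟨?_⟩⟩
  refine (Scheme.Modules.pullback (PicF.XTmap f g)).mapIso e ≪≫
    pullTensorIsoRight _ (hasBases_of_isInvertible (isInvertible_pullback _ hM)) E ≪≫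
    Tens.mapTIso (Iso.refl _) ?_
  exact (Scheme.Modules.pullbackComp _ _).app M ≪≫
    (Scheme.Modules.pullbackCongr (XTmap_XTproj f g)).app M ≪≫ ((Scheme.Modules.pullbackComp _ _).app M).symm

theorem pull_comp_iso {T T' T'' : Over S} (g : T' ⟶ T) (g' : T'' ⟶ T') (E : (PicF.XT f T).Modules) :
    Nonempty ((Scheme.Modules.pullback (PicF.XTmap f (g' ≫ g))).obj E ≅
      (Scheme.Modules.pullback (PicF.XTmap f g')).obj ((Scheme.Modules.pullback (PicF.XTmap f g)).obj E)) :=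
  ⟨(Scheme.Modules.pullbackCongr (XTmap_comp f g g')).app E ≪≫ ((Scheme.Modules.pullbackComp _ _).app E).symm⟩

/-! ### determinants -/

theorem extPow_pull {X Y : Scheme.{u}} (p : X ⟶ Y) {i : ℕ} {E L : Y.Modules} (hE : FlatMod.IsFinLocFree E)
    (hL : ExtPow.IsExtPow i E L) :
    ExtPow.IsExtPow i ((Scheme.Modules.pullback p).obj E) ((Scheme.Modules.pullback p).obj L) :=
  Krr.H487.ExtPull.isExtPow_pullback p hE hL
    (Dual.H366.ExtQCoh.exists_isExtPow i (Ega2.QCohLocal.isQCoh_of_isFinLocFree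
      (Krr.H482.PullLambda.isFinLocFree_pullback p hE)))

theorem detIs_pull {n m : ℕ} (L : X.Modules) {T T' : Over S} (g : T' ⟶ T) {E : (PicF.XT f T).Modules}
    (hE : FlatMod.IsFinLocFreeOfRank m E) (h : ModFun.DetIs f n L T E) :
    ModFun.DetIs f n L T' ((Scheme.Modules.pullback (PicF.XTmap f g)).obj E) := by
  obtain ⟨D, hD, hr⟩ := h
  refine ⟨(Scheme.Modules.pullback (PicF.XTmap f g)).obj D,
    extPow_pull _ (Krr.H482.PullLambda.isFinLocFree_of_rank hE) hD, ?_⟩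
  refine r_trans f (r_of_iso f ?_) (r_pull f g hr)
  exact (Scheme.Modules.pullbackCongr (XTmap_fst f g)).symm.app L ≪≫ ((Scheme.Modules.pullbackComp _ _).app L).symm

/-! ### stability of the fibres -/

theorem stable_of_iso {k : Type u} [Field k] {Y : Scheme.{u}} [Y.Over (Spec (CommRingCat.of k))]
    {E E' : Y.Modules} (e : E ≅ E') {r : ℕ} (h : ModFun.IsSlopeStable k Y E r) :
    ModFun.IsSlopeStable k Y E' r := by
  intro F r' i hi h1 h2 hF
  have h3 := h F r' (i ≫ e.inv) (mono_comp _ _) h1 h2 hF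
  rwa [Curv2.deg, Curv2.deg, Fga.HodgePush.euler_congr k Y e] at h3

theorem fib_transport {T : Over S} (E : (PicF.XT f T).Modules) (n : ℕ) (Ω : Type u) [Field Ω]
    (s s' : Spec (CommRingCat.of Ω) ⟶ S) (hs : s = s') (a : Over.mk s ⟶ T) (a' : Over.mk s' ⟶ T)
    (ha : a.left = a'.left)
    (h : letI : (PicF.XT f (Over.mk s)).Over (Spec (CommRingCat.of Ω)) := ⟨PicF.XTproj f (Over.mk s)⟩;
      ModFun.IsSlopeStable Ω (PicF.XT f (Over.mk s)) ((Scheme.Modules.pullback (PicF.XTmap f a)).obj E) n) :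
    letI : (PicF.XT f (Over.mk s')).Over (Spec (CommRingCat.of Ω)) := ⟨PicF.XTproj f (Over.mk s')⟩;
      ModFun.IsSlopeStable Ω (PicF.XT f (Over.mk s')) ((Scheme.Modules.pullback (PicF.XTmap f a')).obj E) n := by
  subst hs
  obtain rfl : a = a' := Over.OverMorphism.ext ha
  exact h

theorem fibStable_pull {T T' : Over S} (g : T' ⟶ T) {E : (PicF.XT f T).Modules} {n : ℕ}
    (h : ModFun.FibStable f n T E) :
    ModFun.FibStable f n T' ((Scheme.Modules.pullback (PicF.XTmap f g)).obj E) := by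
  intro Ω _ _ t
  have h1 := h Ω (t ≫ g.left)
  have h2 := fib_transport f E n Ω ((t ≫ g.left) ≫ T.hom) (t ≫ T'.hom) (by rw [Category.assoc, Over.w g])
    (Over.homMk (t ≫ g.left) rfl) ((Over.homMk t rfl : Over.mk (t ≫ T'.hom) ⟶ T') ≫ g) rfl h1
  let : (PicF.XT f (Over.mk (t ≫ T'.hom))).Over (Spec (CommRingCat.of Ω)) := ⟨PicF.XTproj f (Over.mk (t ≫ T'.hom))⟩
  obtain ⟨e⟩ := pull_comp_iso f g (Over.homMk t rfl : Over.mk (t ≫ T'.hom) ⟶ T') E
  exact stable_of_iso e h2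

end Fib

end K432.MukLaws

namespace K704.Muk

open K432.MukLaws

/-- NODE LAWS : the problem `SU` is functorial. -/
theorem laws_SU {X S : Scheme.{u}} (f : X ⟶ S) (L : X.Modules) (hL : PicF.IsInvertible L) :
    K704.FineCoarse.Laws (ModFun.SU f 2 L) where
  ok_pull g x hx := by
    obtain ⟨⟨⟨h0, h1⟩, h2⟩, h3⟩ := hx
    exact ⟨⟨⟨trivial, Groth.Agent.Krr.H482.PullLambda.isFinLocFreeOfRank_pullback _ h1⟩,
      detIs_pull f L g h1 h2⟩, fibStable_pull f g h3⟩
  refl x _ := r_of_iso f (Iso.refl _)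
  symm x y _ _ h := r_symm f h
  trans x y z _ _ _ h h' := r_trans f h h'
  pull_r g x y _ _ h := r_pull f g h
  pull_comp g g' x _ := r_of_iso f (pull_comp_iso f g g' x).some

end K704.Muk
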